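import Groth.Agent.E4O.InfDescent

/-! Flatness at all points above a closed point passes to infinitesimal quotients. -/

set_option autoImplicit false
set_option linter.style.haveILetI false

universe u

open CategoryTheory CategoryTheory.Limits AlgebraicGeometry

namespace Groth.Agent.Desc62

/-- Flatness at all points above the closed point passes to quotients (EGA IV 11.4.8). -/
theorem flat_points_quotient {X Y : Scheme.{u}} (f : X ⟶ Y) (F : X.Modules) (hF : Coh.IsQCoh F)
    {y : Y} {S T : Type u} [CommRing S] [CommRing T] [IsLocalRing S] [IsLocalRing T]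
    (φ : Y.presheaf.stalk y →+* S) (I : Ideal (Y.presheaf.stalk y)) (π : S →+* T)
    (ψ : Y.presheaf.stalk y ⧸ I →+* T) (hψ : ψ.comp (Ideal.Quotient.mk I) = π.comp φ) [IsLocalHom π]
    (x : X)
    (h : ∀ x' : ↥(pullback f (Spec.map (CommRingCat.ofHom φ) ≫ Y.fromSpecStalk y)),
      pullback.fst f _ x' = x → pullback.snd f _ x' = IsLocalRing.closedPoint S →
      FlatMod.IsFlatOverAt (pullback.snd f (Spec.map (CommRingCat.ofHom φ) ≫ Y.fromSpecStalk y))
        ((Scheme.Modules.pullback (pullback.fst f _)).obj F) x')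
    (xB : ↥(pullback f (E4O.infNbhd y I))) (hxB : pullback.fst f (E4O.infNbhd y I) xB = x)
    (w : ↥(pullback (pullback.snd f (E4O.infNbhd y I)) (Spec.map (CommRingCat.ofHom ψ))))
    (hw1 : pullback.fst (pullback.snd f (E4O.infNbhd y I)) (Spec.map (CommRingCat.ofHom ψ)) w = xB)
    (hw2 : pullback.snd (pullback.snd f (E4O.infNbhd y I)) (Spec.map (CommRingCat.ofHom ψ)) w = IsLocalRing.closedPoint T) :
      FlatMod.IsFlatOverAt (pullback.snd (pullback.snd f (E4O.infNbhd y I)) (Spec.map (CommRingCat.ofHom ψ)))
        ((Scheme.Modules.pullback (pullback.fst (pullback.snd f (E4O.infNbhd y I)) (Spec.map (CommRingCat.ofHom ψ)))).obj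
          ((Scheme.Modules.pullback (pullback.fst f (E4O.infNbhd y I))).obj F)) w := by
  let b := E4O.infNbhd y I
  let g := Spec.map (CommRingCat.ofHom φ) ≫ Y.fromSpecStalk y
  let c := Spec.map (CommRingCat.ofHom π)
  let gB := Spec.map (CommRingCat.ofHom ψ)
  have hcg : gB ≫ b = c ≫ g := by
    simp only [b, E4O.infNbhd, gB, c, g, ← Category.assoc, ← Spec.map_comp, ← CommRingCat.ofHom_comp, hψ]
  let big := (IsPullback.of_hasPullback (pullback.snd f b) gB).paste_horiz (IsPullback.of_hasPullback f b)
  have big' : IsPullback (pullback.fst (pullback.snd f b) gB ≫ pullback.fst f b)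
      (pullback.snd (pullback.snd f b) gB) f (c ≫ g) := hcg ▸ big
  let k := pullback.lift (f := f) (g := g) (pullback.fst (pullback.snd f b) gB ≫ pullback.fst f b)
    (pullback.snd (pullback.snd f b) gB ≫ c) (by rw [big'.w, Category.assoc])
  have sq : IsPullback k (pullback.snd (pullback.snd f b) gB) (pullback.snd f g) c := by
    refine IsPullback.of_right (v₁₃ := f) (h₁₂ := pullback.fst f g) ?_ (pullback.lift_snd _ _ _) (IsPullback.of_hasPullback f g)
    rw [pullback.lift_fst]
    exact big'
  have hcz : c (IsLocalRing.closedPoint T) = IsLocalRing.closedPoint S := by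
    haveI : IsLocalHom (CommRingCat.ofHom π).hom := ‹IsLocalHom π›
    exact Spec_closedPoint
  have hk1 : pullback.fst f g (k w) = x := by
    rw [← Scheme.Hom.comp_apply, pullback.lift_fst, Scheme.Hom.comp_apply, hw1, hxB]
  have hk2 : pullback.snd f g (k w) = IsLocalRing.closedPoint S := by
    rw [← Scheme.Hom.comp_apply, pullback.lift_snd, Scheme.Hom.comp_apply, hw2, hcz]
  haveI : F.IsQuasicoherent := hF
  have h1 := FlatMor66.isFlatOverAt_baseChange sq ((Scheme.Modules.pullback (pullback.fst f g)).obj F)
    (QCPull72.isQuasicoherent_pullback _ F) w (h _ hk1 hk2)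
  exact (FlatMor68.FlatDimFun.isFlatOverAt_iff_of_iso _ ((Scheme.Modules.pullbackComp k (pullback.fst f g)).app F ≪≫
    (Scheme.Modules.pullbackCongr (pullback.lift_fst _ _ _)).app F ≪≫
    ((Scheme.Modules.pullbackComp _ (pullback.fst f b)).app F).symm) w).1 h1

end Groth.Agent.Desc62
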