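import Groth.Agent.Desc62.ProperStalk
import Groth.Agent.S4857
import Groth.Agent.VarGal.GeomReg

/-! Descent of flatness along proper schematically dominant morphisms, Noetherian case (EGA IV 11.5.3). -/

set_option autoImplicit false
set_option backward.isDefEq.respectTransparency.types false
set_option linter.style.haveILetI false
universe u

open CategoryTheory CategoryTheory.Limits AlgebraicGeometry IsLocalRing TopologicalSpace

namespace Groth.Agent.Desc62

/-- A section of the target whose pullback along a closed map has zero germ along the fibre over a point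
pulls back to zero over a neighbourhood of the point. -/
theorem exists_app_eq_zero {Y Y' : Scheme.{u}} (g : Y' ⟶ Y) (hg : IsClosedMap g) {V : Y.Opens} (s : Γ(Y, V))
    {y : Y} (hy : y ∈ V)
    (h : ∀ (z : Y') (hz : g z ∈ V), g z = y → Y'.presheaf.germ (g ⁻¹ᵁ V) z hz (g.app V s) = 0) :
    ∃ (W : Y.Opens) (hWV : W ≤ V), y ∈ W ∧ g.app W (Y.presheaf.map (homOfLE hWV).op s) = 0 := by
  let N : Set Y' := {z | ∃ hz : g z ∈ V, Y'.presheaf.germ (g ⁻¹ᵁ V) z hz (g.app V s) = 0}
  have hN : IsOpen N := by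
    refine isOpen_iff_forall_mem_open.2 fun z ⟨hz, e⟩ => ?_
    obtain ⟨W, hzW, i₁, i₂, e'⟩ := Y'.presheaf.germ_eq (U := g ⁻¹ᵁ V) (V := g ⁻¹ᵁ V) z hz hz
      (g.app V s) 0 (e.trans (map_zero _).symm)
    refine ⟨W, fun z' hz' => ⟨i₁.le hz', ?_⟩, W.2, hzW⟩
    exact (TopCat.Presheaf.germ_ext Y'.presheaf (hxU := i₁.le hz') (hxV := i₁.le hz') W hz' i₁ i₂ e').trans (map_zero _)
  let W : Y.Opens := V ⊓ ⟨(g '' Nᶜ)ᶜ, (hg _ hN.isClosed_compl).isOpen_compl⟩
  refine ⟨W, inf_le_left, ⟨hy, fun ⟨z, hz, e⟩ => hz ⟨(show g z ∈ V from e.symm ▸ hy), h z _ e⟩⟩, ?_⟩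
  refine TopCat.Presheaf.section_ext Y'.sheaf (g ⁻¹ᵁ W) _ _ fun z hz => ?_
  obtain ⟨hzV, e⟩ : z ∈ N := by
    by_contra hn
    exact hz.2 ⟨z, hn, rfl⟩
  refine Eq.trans ?_ (map_zero _).symm
  have h1 := congr($(g.naturality (homOfLE (inf_le_left : W ≤ V)).op) s)
  simp only [CommRingCat.comp_apply] at h1
  change Y'.presheaf.germ (g ⁻¹ᵁ W) z hz (g.app W _) = 0
  rw [h1]
  exact (TopCat.Presheaf.germ_res_apply Y'.presheaf _ _ _ _).trans e

variable {X Y Y' : Scheme.{u}}

/-- Global sections of the base change to a local ring are injective. -/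
theorem injective_appTop_stalk (g : Y' ⟶ Y) [IsProper g] (y : Y)
    (hinj : ∀ (V : Y.Opens) (s : Γ(Y, V)), y ∈ V → g.app V s = 0 →
      ∃ W : Y.Opens, y ∈ W ∧ ∃ hWV : W ≤ V, Y.presheaf.map (homOfLE hWV).op s = 0) :
    Function.Injective (pullback.snd g (Y.fromSpecStalk y)).appTop := by
  let b := Y.fromSpecStalk y
  let p := pullback.snd g b
  let q := pullback.fst g b
  haveI : Flat b := VarGal.flat_fromSpecStalk y
  haveI : Flat q := inferInstance
  refine (injective_iff_map_eq_zero _).2 fun a ha => ?_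
  obtain ⟨a, rfl⟩ := (Scheme.ΓSpecIso (Y.presheaf.stalk y)).symm.commRingCatIsoToRingEquiv.surjective a
  obtain ⟨V, hy, s, rfl⟩ := TopCat.Presheaf.exists_germ_eq Y.presheaf a
  obtain ⟨W, hWV, hyW, hW⟩ := exists_app_eq_zero g g.isClosedMap s hy fun z hz hzy => by
    obtain ⟨w, hw1, hw2⟩ := Scheme.Pullback.exists_preimage_pullback (f := g) (g := b) z
      (closedPoint (Y.presheaf.stalk y)) (hzy.trans Scheme.fromSpecStalk_closedPoint.symm)
    subst hw1
    have hi : Function.Injective (q.stalkMap w).hom := by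
      letI := (q.stalkMap w).hom.toAlgebra
      haveI : Module.Flat (Y'.presheaf.stalk (q w)) ((pullback g b).presheaf.stalk w) := Flat.stalkMap q w
      haveI : IsLocalHom (algebraMap (Y'.presheaf.stalk (q w)) ((pullback g b).presheaf.stalk w)) :=
        inferInstanceAs (IsLocalHom (q.stalkMap w).hom)
      haveI := Module.FaithfullyFlat.of_flat_of_isLocalHom (A := Y'.presheaf.stalk (q w))
        (B := (pullback g b).presheaf.stalk w)
      exact FaithfulSMul.algebraMap_injective _ _
    refine hi (Eq.trans ?_ (map_zero _).symm)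
    rw [Scheme.Hom.germ_stalkMap_apply]
    have h1 := congr($(Scheme.Hom.congr_app (pullback.condition (f := g) (g := b)) V) s)
    simp only [Scheme.Hom.comp_app, ConcreteCategory.comp_apply] at h1
    erw [h1]
    have hb : b.app V s = (Spec (Y.presheaf.stalk y)).presheaf.map (homOfLE le_top).op
        ((Scheme.ΓSpecIso (Y.presheaf.stalk y)).inv (Y.presheaf.germ V y hy s)) :=
      congr($(Scheme.fromSpecStalk_app hy) s)
    have hn := congr($(p.naturality (homOfLE (le_top : b ⁻¹ᵁ V ≤ ⊤)).op)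
      ((Scheme.ΓSpecIso (Y.presheaf.stalk y)).inv (Y.presheaf.germ V y hy s)))
    simp only [ConcreteCategory.comp_apply] at hn
    have h2 : p.app (b ⁻¹ᵁ V) (b.app V s) = 0 := by
      rw [hb]
      erw [hn, show p.app ⊤ ((Scheme.ΓSpecIso (Y.presheaf.stalk y)).inv (Y.presheaf.germ V y hy s)) = 0 from ha]
      exact map_zero _
    show ((pullback g b).presheaf.germ _ w hz) ((pullback g b).presheaf.map (eqToHom _).op (p.app (b ⁻¹ᵁ V) (b.app V s))) = 0
    rw [h2]
    erw [map_zero, map_zero]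
  obtain ⟨W', hyW', hW'W, e⟩ := hinj W _ hyW hW
  have h0 : Y.presheaf.germ V y hy s = 0 := by
    rw [← TopCat.Presheaf.germ_res_apply Y.presheaf (homOfLE hWV) y hyW s,
      ← TopCat.Presheaf.germ_res_apply Y.presheaf (homOfLE hW'W) y hyW' _, e, map_zero]
  rw [h0, map_zero]

/-- Noetherian case of EGA IV 11.5.3. -/
theorem isFlatOverAt_of_proper_noetherian [IsLocallyNoetherian Y] (f : X ⟶ Y) [LocallyOfFiniteType f]
    (F : X.Modules) (hF : Coh.IsCoh F) (x : X) (g : Y' ⟶ Y) [IsProper g]
    (hinj : ∀ (V : Y.Opens) (s : Γ(Y, V)), f x ∈ V → g.app V s = 0 →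
      ∃ W : Y.Opens, f x ∈ W ∧ ∃ hWV : W ≤ V, Y.presheaf.map (homOfLE hWV).op s = 0)
    (hflat : ∀ x' : ↥(pullback f g), pullback.fst f g x' = x →
      FlatMod.IsFlatOverAt (pullback.snd f g) ((Scheme.Modules.pullback (pullback.fst f g)).obj F) x') :
    FlatMod.IsFlatOverAt f F x := by
  let b := Y.fromSpecStalk (f x)
  let p := pullback.snd g b
  let q := pullback.fst g b
  let ι := {w : ↥(pullback g b) // p w = closedPoint (Y.presheaf.stalk (f x))}
  let A : ι → Type u := fun w => (pullback g b).presheaf.stalk w.1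
  letI : ∀ w : ι, CommRing (A w) := fun w => inferInstanceAs (CommRing ((pullback g b).presheaf.stalk w.1))
  haveI : ∀ w : ι, IsLocalRing (A w) := fun w => inferInstanceAs (IsLocalRing ((pullback g b).presheaf.stalk w.1))
  let φ : ∀ w : ι, (Y.presheaf.stalk (f x) : Type u) →+* A w := fun w => tr (R := (Y.presheaf.stalk (f x) : Type u)) p w.1
  haveI h11 : IsLocalRing (Y.presheaf.stalk (f x)) := inferInstance
  haveI h12 : IsNoetherianRing (Y.presheaf.stalk (f x)) := inferInstance
  haveI : ∀ w : ι, IsLocalHom (φ w) := fun w => @isLocalHom_tr _ _ h11 _ p w.1 w.2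
  refine Groth.Agent.S4857.result f F hF x A φ
    (@exists_finset_bound _ _ _ p h12 h11 (inferInstanceAs (IsProper (pullback.snd g b))) (injective_appTop_stalk g (f x) hinj)) fun w x' hx1 hx2 => ?_
  let gw := Spec.map (CommRingCat.ofHom (φ w)) ≫ b
  let c : Spec (CommRingCat.of (A w)) ⟶ Y' := (pullback g b).fromSpecStalk w.1 ≫ q
  have hc : c ≫ g = gw := by
    show _ = Spec.map (CommRingCat.ofHom (tr p w.1)) ≫ b
    rw [spec_map_tr, Category.assoc, Category.assoc]
    exact congrArg _ pullback.condition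
  let k := pullback.lift (f := f) (g := g) (pullback.fst f gw) (pullback.snd f gw ≫ c)
    (by rw [pullback.condition, Category.assoc, hc])
  have sq : IsPullback k (pullback.snd f gw) (pullback.snd f g) c := by
    refine IsPullback.of_right (v₁₃ := f) (h₁₂ := pullback.fst f g) ?_ (pullback.lift_snd _ _ _) (IsPullback.of_hasPullback f g)
    rw [pullback.lift_fst, hc]
    exact IsPullback.of_hasPullback f gw
  haveI : F.IsQuasicoherent := hF.1
  have h1 := FlatMor66.isFlatOverAt_baseChange sq ((Scheme.Modules.pullback (pullback.fst f g)).obj F)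
    (QCPull72.isQuasicoherent_pullback _ F) x' (hflat (k x') (by
      rw [← Scheme.Hom.comp_apply, pullback.lift_fst, hx1]))
  exact (FlatMor68.FlatDimFun.isFlatOverAt_iff_of_iso _ ((Scheme.Modules.pullbackComp k (pullback.fst f g)).app F ≪≫
    (Scheme.Modules.pullbackCongr (pullback.lift_fst _ _ _)).app F) x').1 h1

end Groth.Agent.Desc62
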