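import Groth.Agent.Desc62.ProperFlat
import Groth.Agent.Stage62.NoethDescent
import Groth.Agent.Approx60.ProperDesc
import Groth.Agent.Approx60.Absolute
import Groth.Agent.ConsProp93.Approx

/-! Descent of flatness along proper schematically dominant morphisms (EGA IV 11.5.3). -/

set_option autoImplicit false
set_option backward.isDefEq.respectTransparency.types false
set_option linter.style.haveILetI false
universe u

open CategoryTheory CategoryTheory.Limits AlgebraicGeometry IsLocalRing TopologicalSpace Opposite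

namespace Groth.Agent.Desc62

/-- A section of the spectrum of a subring of a local ring killed in the local ring vanishes near the
image of the closed point. -/
theorem exists_map_eq_zero_of_injective {R A : CommRingCat.{u}} [IsLocalRing A] (φ : R ⟶ A)
    (hφ : Function.Injective φ.hom) (V : (Spec R).Opens) (s : Γ(Spec R, V))
    (hV : Spec.map φ (closedPoint A) ∈ V) (hs : (Spec.map φ).app V s = 0) :
    ∃ W : (Spec R).Opens, Spec.map φ (closedPoint A) ∈ W ∧
      ∃ hWV : W ≤ V, (Spec R).presheaf.map (homOfLE hWV).op s = 0 := by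
  let y := Spec.map φ (closedPoint A)
  suffices h : (Spec R).presheaf.germ V y hV s = 0 by
    obtain ⟨W, hW, i₁, i₂, e⟩ := (Spec R).presheaf.germ_eq (U := V) (V := V) y hV hV s 0
      (h.trans (map_zero _).symm)
    exact ⟨W, hW, i₁.le, e.trans (map_zero _)⟩
  let O := (Spec R).presheaf.stalk y
  letI : Algebra R O := ((Scheme.ΓSpecIso R).inv ≫ (Spec R).presheaf.germ ⊤ y trivial).hom.toAlgebra
  haveI : IsLocalization.AtPrime O (PrimeSpectrum.asIdeal y) := StructureSheaf.IsLocalization.to_stalk R y
  obtain ⟨a, t, e⟩ := IsLocalization.exists_mk'_eq (PrimeSpectrum.asIdeal y).primeCompl ((Spec R).presheaf.germ V y hV s)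
  suffices ha : a = 0 by rw [← e, ha, IsLocalization.mk'_zero]
  refine hφ ((Scheme.ΓSpecIso A).symm.commRingCatIsoToRingEquiv.injective ?_)
  let S := Spec A
  let c := closedPoint A
  have h1 : (Spec.map φ).stalkMap c ((Spec R).presheaf.germ V y hV s) = 0 := by
    rw [Scheme.Hom.germ_stalkMap_apply, hs, map_zero]
  have h2 : ∀ r : R, (Spec.map φ).stalkMap c (algebraMap R O r) =
      S.presheaf.germ ⊤ c trivial ((Scheme.ΓSpecIso A).inv (φ r)) := fun r => by
    rw [show algebraMap R O r = (Spec R).presheaf.germ ⊤ y trivial ((Scheme.ΓSpecIso R).inv r) from rfl,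
      Scheme.Hom.germ_stalkMap_apply]
    exact congrArg _ congr($(Scheme.ΓSpecIso_inv_naturality φ) r).symm
  have h3 : (Spec.map φ).stalkMap c (algebraMap R O a) = 0 := by
    rw [← IsLocalization.mk'_spec O a t, map_mul, e, h1, zero_mul]
  rw [h2] at h3
  refine (eq_zero_of_closed_fibre (p := 𝟙 S) ?_ _ fun w hw => ?_).trans ?_
  · exact fun C hC => by simpa using hC
  · obtain rfl : w = c := hw
    exact h3
  · rw [map_zero φ.hom, map_zero]

variable {X Y Y' : Scheme.{u}}

/-- The case of a local base, with flatness everywhere. -/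
theorem isFlatOverAt_of_proper_local {A : Type u} [CommRing A] [IsLocalRing A]
    (f : X ⟶ Spec (CommRingCat.of A)) [LocallyOfFinitePresentation f] [QuasiCompact f] [QuasiSeparated f]
    (F : X.Modules) [F.IsQuasicoherent] [CohB1.IsFP F] (x : X) (hx : f x = closedPoint A)
    (g : Y' ⟶ Spec (CommRingCat.of A)) [IsProper g] [LocallyOfFinitePresentation g]
    (hinj : Function.Injective g.appTop)
    (hflat : FlatMod.IsFlatOver (pullback.snd f g) ((Scheme.Modules.pullback (pullback.fst f g)).obj F)) :
    FlatMod.IsFlatOverAt f F x := by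
  let D := Stage62.subringSpec A
  let c := Stage62.subringCone A
  have hc : IsLimit c := Stage62.isLimitSubringCone A
  obtain ⟨a, X₀, f₀, F₀, qX, h1, h2, h3, hX, h4, h5, ⟨e⟩⟩ := Stage62.exists_model f F
  haveI : @LocallyOfFinitePresentation Y' c.pt g := ‹LocallyOfFinitePresentation g›
  haveI : @QuasiCompact Y' c.pt g := (inferInstance : QuasiCompact g)
  haveI : @QuasiSeparated Y' c.pt g := (inferInstance : QuasiSeparated g)
  obtain ⟨b, Yb, gb, qY, hlb, hqcb, hqsb, hY⟩ := Approx60.S0591 D c hc Y' g
  have hprop : IsProper (pullback.snd gb (c.π.app b)) :=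
    (LimDesc62.prop_iff_of_isPullback (P := @IsProper) hY).mp (show @IsProper Y' c.pt g from ‹IsProper g›)
  obtain ⟨b', β, hβ⟩ := Approx60.descProp_isProper.desc D c hc b gb (inferInstance : LocallyOfFiniteType gb) hprop
  obtain ⟨k, α, γ, -⟩ := IsCofilteredOrEmpty.cone_objs a b'
  obtain ⟨qXk, -, hXk, ⟨ek⟩⟩ := Stage62.exists_baseChange_model D c a f₀ F₀ f qX hX α e
  let fk := pullback.snd f₀ (D.map α)
  let Fk := (Scheme.Modules.pullback (pullback.fst f₀ (D.map α))).obj F₀
  haveI : Fk.IsQuasicoherent := QCPull72.isQuasicoherent_pullback _ F₀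
  haveI : CohB1.IsFP Fk := (haveI := h5; LimTop61.isFP_pullback _ F₀)
  obtain ⟨q₁, -, hY₁⟩ := ConsProp93.exists_isPullback_of_fac hY (IsPullback.of_hasPullback gb (D.map β))
    (c.π.app b') (c.w β)
  obtain ⟨qYk, -, hYk⟩ := ConsProp93.exists_isPullback_of_fac hY₁
    (IsPullback.of_hasPullback (pullback.snd gb (D.map β)) (D.map γ)) (c.π.app k) (c.w γ)
  haveI : IsProper (pullback.snd gb (D.map β)) := hβ
  haveI : LocallyOfFinitePresentation (pullback.snd gb (D.map β)) := inferInstance
  let gk := pullback.snd (pullback.snd gb (D.map β)) (D.map γ)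
  haveI : IsProper gk := inferInstance
  haveI : LocallyOfFinitePresentation gk := inferInstance
  haveI : LocallyOfFinitePresentation fk := inferInstance
  haveI : QuasiCompact fk := inferInstance
  let fP := pullback.snd fk gk
  haveI : LocallyOfFinitePresentation (fP ≫ gk) := inferInstance
  haveI : QuasiCompact (fP ≫ gk) := inferInstance
  let FP := (Scheme.Modules.pullback (pullback.fst fk gk)).obj Fk
  haveI : FP.IsQuasicoherent := QCPull72.isQuasicoherent_pullback _ Fk
  haveI : CohB1.IsFP FP := LimTop61.isFP_pullback _ Fk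
  let P := pullback f g
  let qP : P ⟶ pullback fk gk := pullback.lift (pullback.fst f g ≫ qXk) (pullback.snd f g ≫ qYk)
    (by rw [Category.assoc, Category.assoc, hXk.w, hYk.w, ← Category.assoc, ← Category.assoc]
        exact congrArg (· ≫ c.π.app k) pullback.condition)
  have hP : IsPullback qP (pullback.snd f g) fP qYk := by
    refine IsPullback.of_right (v₁₃ := fk) (h₁₂ := pullback.fst fk gk) ?_ (pullback.lift_snd _ _ _) (IsPullback.of_hasPullback fk gk)
    rw [pullback.lift_fst, hYk.w]
    exact (IsPullback.of_hasPullback f g).paste_horiz hXk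
  let eP : (Scheme.Modules.pullback qP).obj FP ≅ (Scheme.Modules.pullback (pullback.fst f g)).obj F :=
    (Scheme.Modules.pullbackComp qP (pullback.fst fk gk)).app Fk ≪≫
      (Scheme.Modules.pullbackCongr (pullback.lift_fst _ _ _)).app Fk ≪≫
      ((Scheme.Modules.pullbackComp (pullback.fst f g) qXk).app Fk).symm ≪≫
      (Scheme.Modules.pullback (pullback.fst f g)).mapIso ek
  have : IsAffine (D.obj k) := inferInstanceAs (IsAffine ((Stage62.subringSpec A).obj k))
  obtain ⟨i, φ, Xi, Yi, fi, gi, pY, pX, hYi, hXi, hfl⟩ :=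
    (Stage62.isFlatOver_iff_exists_stage D c hc k fP gk FP (pullback.snd f g) g qYk qP hYk hP).mp
      fun z => Stage62.isFlatOverAt_of_iso _ eP.symm z (hflat z)
  obtain ⟨qXi, -, hXi', ⟨ei⟩⟩ := Stage62.exists_baseChange_model D c k fk Fk f qXk hXk φ ek
  let fn := pullback.snd fk (D.map φ)
  let Fn := (Scheme.Modules.pullback (pullback.fst fk (D.map φ))).obj Fk
  haveI : Fn.IsQuasicoherent := QCPull72.isQuasicoherent_pullback _ Fk
  obtain ⟨qYi, -, hYi'⟩ := ConsProp93.exists_isPullback_of_fac hYk hYi (c.π.app i) (c.w φ)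
  haveI : IsProper gi := MorphismProperty.of_isPullback hYi ‹IsProper gk›
  haveI : IsLocallyNoetherian (D.obj i) := by
    haveI : IsNoetherianRing ↥i.unop.1 :=
      haveI : Algebra.FiniteType ℤ ↥i.unop.1 := i.unop.1.fg_iff_finiteType.mp i.unop.2
      Algebra.FiniteType.isNoetherianRing ℤ _
    show IsLocallyNoetherian (Spec (CommRingCat.of ↥i.unop.1))
    infer_instance
  have key : FlatMod.IsFlatOverAt fn Fn (qXi x) := by
    have hFn : Coh.IsCoh Fn := ⟨inferInstance, Stage62.isFiniteType_of_isFP (LimTop61.isFP_pullback _ Fk)⟩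
    have hxi : fn (qXi x) = c.π.app i (closedPoint A) := by
      rw [← Scheme.Hom.comp_apply, hXi'.w, Scheme.Hom.comp_apply]
      exact congrArg (c.π.app i) hx
    refine isFlatOverAt_of_proper_noetherian fn Fn hFn (qXi x) gi (fun V s hV hs => ?_) fun z _ => ?_
    · rw [hxi] at hV ⊢
      refine @exists_map_eq_zero_of_injective _ (CommRingCat.of A) ‹IsLocalRing A› (CommRingCat.ofHom i.unop.1.val.toRingHom)
        Subtype.val_injective V s hV ?_
      let ψ : Spec (CommRingCat.of A) ⟶ D.obj i := c.π.app i
      show ψ.app V s = 0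
      have htop : ∀ (U : (Spec (CommRingCat.of A)).Opens), U = ⊤ → ∀ t, g.app U t = 0 → t = 0 := by
        rintro U rfl t ht
        exact hinj (ht.trans (map_zero _).symm)
      have hw : qYi ≫ gi = g ≫ ψ := hYi'.w
      have h1 := congr($(Scheme.Hom.congr_app hw V) s)
      change qYi.app _ (gi.app V s) = Y'.presheaf.map _ (g.app _ (ψ.app V s)) at h1
      rw [hs, map_zero] at h1
      refine htop _ ?_ _ ((ConcreteCategory.bijective_of_isIso (Y'.presheaf.map (eqToHom _).op)).1
        (h1.symm.trans (map_zero _).symm))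
      exact TopologicalSpace.Opens.ext (Set.eq_univ_of_forall fun w =>
        (specializes_closedPoint w).mem_open (ψ ⁻¹ᵁ V).2 hV)
    · let l : pullback fn gi ⟶ Xi := hXi.lift
        (pullback.lift (pullback.fst fn gi ≫ pullback.fst fk (D.map φ)) (pullback.snd fn gi ≫ pY)
          (by rw [Category.assoc, Category.assoc, pullback.condition, hYi.w, ← Category.assoc, ← Category.assoc, pullback.condition]))
        (pullback.snd fn gi) (pullback.lift_snd _ _ _)
      have hl1 : l ≫ pX ≫ pullback.fst fk gk = pullback.fst fn gi ≫ pullback.fst fk (D.map φ) := by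
        rw [← Category.assoc, IsPullback.lift_fst, pullback.lift_fst]
      have sq : IsPullback l (pullback.snd fn gi) fi (𝟙 Yi) := by
        refine IsPullback.of_right (v₁₃ := fk) (h₁₂ := pX ≫ pullback.fst fk gk) (h₂₂ := pY ≫ gk) ?_
          (by rw [IsPullback.lift_snd, Category.comp_id]) (hXi.paste_horiz (IsPullback.of_hasPullback fk gk))
        rw [hl1, Category.id_comp, hYi.w]
        exact (IsPullback.of_hasPullback fn gi).paste_horiz (IsPullback.of_hasPullback fk (D.map φ))
      have hq : ((Scheme.Modules.pullback pX).obj FP).IsQuasicoherent := QCPull72.isQuasicoherent_pullback _ FP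
      refine Stage62.isFlatOverAt_of_iso _ ?_ z (FlatMor66.isFlatOverAt_baseChange sq _ hq z (hfl (l z)))
      exact (Scheme.Modules.pullback l).mapIso ((Scheme.Modules.pullbackComp pX (pullback.fst fk gk)).app Fk) ≪≫
        (Scheme.Modules.pullbackComp l _).app Fk ≪≫ (Scheme.Modules.pullbackCongr hl1).app Fk ≪≫
        ((Scheme.Modules.pullbackComp (pullback.fst fn gi) (pullback.fst fk (D.map φ))).app Fk).symm
  exact Stage62.isFlatOverAt_of_iso f ei x (FlatMor66.isFlatOverAt_baseChange hXi' Fn inferInstance x key)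

/-- EGA IV 11.5.3. -/
theorem isFlatOverAt_of_proper (f : X ⟶ Y) [LocallyOfFinitePresentation f] (F : X.Modules)
    (hQ : F.IsQuasicoherent) (hF : CohB1.IsFP F) (x : X) (g : Y' ⟶ Y) [IsProper g] [LocallyOfFinitePresentation g]
    (hinj : ∀ (V : Y.Opens) (s : Γ(Y, V)), f x ∈ V → g.app V s = 0 →
      ∃ W : Y.Opens, f x ∈ W ∧ ∃ hWV : W ≤ V, Y.presheaf.map (homOfLE hWV).op s = 0)
    (hflat : ∀ x' : ↥(pullback f g), pullback.fst f g x' = x →
      FlatMod.IsFlatOverAt (pullback.snd f g) ((Scheme.Modules.pullback (pullback.fst f g)).obj F) x') :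
    FlatMod.IsFlatOverAt f F x := by
  let O := Y.presheaf.stalk (f x)
  let b := Y.fromSpecStalk (f x)
  obtain ⟨xA, hxA1, hxA2⟩ := Scheme.Pullback.exists_preimage_pullback (f := f) (g := b) x (closedPoint O)
    Scheme.fromSpecStalk_closedPoint.symm
  let fA := pullback.snd f b
  let gA := pullback.snd g b
  let FA := (Scheme.Modules.pullback (pullback.fst f b)).obj F
  haveI : FA.IsQuasicoherent := QCPull72.isQuasicoherent_pullback _ F
  haveI : CohB1.IsFP FA := (haveI := hF; LimTop61.isFP_pullback _ F)
  haveI : Flat b := VarGal.flat_fromSpecStalk (f x)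
  have hb : (b.stalkMap (fA xA)).hom.Flat := Flat.stalkMap b _
  rw [← hxA1]
  refine FlatMor66.isFlatOverAt_of_baseChange (IsPullback.of_hasPullback f b) F hQ xA hb ?_
  let t := pullback.fst fA gA
  let U : Set ↥(pullback fA gA) := {z | FlatMod.IsFlatOverAt (pullback.snd fA gA) ((Scheme.Modules.pullback t).obj FA) z}
  haveI : CohB1.IsFP ((Scheme.Modules.pullback t).obj FA) := LimTop61.isFP_pullback _ FA
  have hU : IsOpen U := Open62.isOpen_flatLocus _ _ (QCPull72.isQuasicoherent_pullback _ FA) inferInstance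
  let k : pullback fA gA ⟶ pullback f g := pullback.lift (t ≫ pullback.fst f b) (pullback.snd fA gA ≫ pullback.fst g b)
    (by rw [Category.assoc, Category.assoc, pullback.condition, pullback.condition, ← Category.assoc, ← Category.assoc, pullback.condition])
  have hsub : t ⁻¹' {xA} ⊆ U := fun z hz => by
    have sq : IsPullback k (pullback.snd fA gA) (pullback.snd f g) (pullback.fst g b) := by
      refine IsPullback.of_right (v₁₃ := f) (h₁₂ := pullback.fst f g) ?_ (pullback.lift_snd _ _ _) (IsPullback.of_hasPullback f g)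
      rw [pullback.lift_fst, pullback.condition]
      exact (IsPullback.of_hasPullback fA gA).paste_horiz (IsPullback.of_hasPullback f b)
    have h1 := FlatMor66.isFlatOverAt_baseChange sq _ (QCPull72.isQuasicoherent_pullback _ F) z (hflat (k z) (by
      rw [← Scheme.Hom.comp_apply, pullback.lift_fst, Scheme.Hom.comp_apply, show t z = xA from hz, hxA1]))
    exact Stage62.isFlatOverAt_of_iso _ ((Scheme.Modules.pullbackComp k (pullback.fst f g)).app F ≪≫
      (Scheme.Modules.pullbackCongr (pullback.lift_fst _ _ _)).app F ≪≫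
      ((Scheme.Modules.pullbackComp t (pullback.fst f b)).app F).symm) z h1
  obtain ⟨V, hV, hxV, hVU⟩ := exists_isAffineOpen_mem_and_subset (X := pullback f b) (x := xA)
    (U := ⟨(t '' Uᶜ)ᶜ, (t.isClosedMap _ hU.isClosed_compl).isOpen_compl⟩) (fun ⟨z, hz, e⟩ => hz (hsub e))
  haveI : IsAffine (V : Scheme.{u}) := hV
  let fV := V.ι ≫ fA
  let FV := (Scheme.Modules.pullback V.ι).obj FA
  haveI : FV.IsQuasicoherent := QCPull72.isQuasicoherent_pullback _ FA
  haveI : CohB1.IsFP FV := LimTop61.isFP_pullback _ FA
  haveI h11 : IsLocalRing (O : Type u) := inferInstanceAs (IsLocalRing (Y.presheaf.stalk (f x)))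
  have hflatV : FlatMod.IsFlatOver (pullback.snd fV gA) ((Scheme.Modules.pullback (pullback.fst fV gA)).obj FV) := fun z => by
    let j : pullback fV gA ⟶ pullback fA gA := pullback.lift (pullback.fst fV gA ≫ V.ι) (pullback.snd fV gA)
      (by rw [Category.assoc]; exact pullback.condition)
    have sq : IsPullback j (pullback.fst fV gA) t V.ι := by
      refine IsPullback.of_right (h₁₂ := pullback.snd fA gA) (v₁₃ := gA) (h₂₂ := fA) ?_ (pullback.lift_fst _ _ _)
        (IsPullback.of_hasPullback fA gA).flip
      rw [pullback.lift_snd]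
      exact (IsPullback.of_hasPullback fV gA).flip
    haveI : IsOpenImmersion j := MorphismProperty.of_isPullback sq.flip (inferInstanceAs (IsOpenImmersion V.ι))
    have hj : j z ∈ U := by
      by_contra hn
      exact hVU (pullback.fst fV gA z).2 ⟨j z, hn, by rw [← Scheme.Hom.comp_apply, pullback.lift_fst]; rfl⟩
    have h1 := (FlatMor68.PullbackStalk.t9350 j (pullback.snd fA gA) _ (QCPull72.isQuasicoherent_pullback _ FA) z
      (Flat.stalkMap j z)).mp hj
    rw [pullback.lift_snd] at h1
    exact Stage62.isFlatOverAt_of_iso _ ((Scheme.Modules.pullbackComp j t).app FA ≪≫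
      (Scheme.Modules.pullbackCongr (pullback.lift_fst _ _ _)).app FA ≪≫
      ((Scheme.Modules.pullbackComp (pullback.fst fV gA) V.ι).app FA).symm) z h1
  have h := @isFlatOverAt_of_proper_local _ _ (O : Type u) _ h11 fV inferInstance inferInstance inferInstance FV inferInstance
    inferInstance ⟨xA, hxV⟩ hxA2 gA inferInstance inferInstance (injective_appTop_stalk g (f x) hinj) hflatV
  exact (FlatMor68.PullbackStalk.t9350 V.ι fA FA inferInstance ⟨xA, hxV⟩ (Flat.stalkMap V.ι _)).mpr h

end Groth.Agent.Desc62
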