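import Groth.Agent.Stage62.FlatChart
import Groth.Agent.CAlg1.Complete
import Groth.Agent.CAlg7.Chevalley
import Mathlib.RingTheory.AdicCompletion.LocalRing
import Mathlib.RingTheory.AdicCompletion.AsTensorProduct
import Mathlib.AlgebraicGeometry.Morphisms.Proper

/-! The local rings of a proper scheme along the closed fibre define the adic topology of a
Noetherian local base over which it is schematically dominant (EGA IV 11.5.3). -/

set_option autoImplicit false
set_option backward.isDefEq.respectTransparency.types false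
set_option linter.style.haveILetI false
universe u

open CategoryTheory CategoryTheory.Limits AlgebraicGeometry IsLocalRing TopologicalSpace TensorProduct

namespace Groth.Agent.Desc62

/-- The map from the coordinate ring of an affine base to a local ring. -/
noncomputable def tr {R : Type u} [CommRing R] {P : Scheme.{u}} (p : P ⟶ Spec (CommRingCat.of R)) (z : P) :
    R →+* P.presheaf.stalk z :=
  ((Scheme.ΓSpecIso (CommRingCat.of R)).inv ≫ p.appTop ≫ P.presheaf.germ ⊤ z trivial).hom

theorem tr_apply {R : Type u} [CommRing R] {P : Scheme.{u}} (p : P ⟶ Spec (CommRingCat.of R)) (z : P) (a : R) :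
    tr p z a = P.presheaf.germ ⊤ z trivial (p.appTop ((Scheme.ΓSpecIso (CommRingCat.of R)).inv a)) := rfl

theorem spec_map_tr {R : Type u} [CommRing R] {P : Scheme.{u}} (p : P ⟶ Spec (CommRingCat.of R)) (z : P) :
    Spec.map (CommRingCat.ofHom (tr p z)) = P.fromSpecStalk z ≫ p := by
  have h : Spec.map (CommRingCat.ofHom (tr p z)) = Spec.map (P.presheaf.germ ⊤ z trivial) ≫
      Spec.map p.appTop ≫ Spec.map (Scheme.ΓSpecIso (CommRingCat.of R)).inv := by
    rw [← Spec.map_comp, ← Spec.map_comp]
    rfl
  rw [h, ← Scheme.fromSpecStalk_toSpecΓ, Category.assoc, ← Scheme.toSpecΓ_naturality_assoc,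
    ← SpecMap_ΓSpecIso_hom, ← Spec.map_comp, Iso.inv_hom_id, Spec.map_id, Category.comp_id]

theorem isLocalHom_tr {R : Type u} [CommRing R] [IsLocalRing R] {P : Scheme.{u}}
    (p : P ⟶ Spec (CommRingCat.of R)) (z : P) (hz : p z = closedPoint R) : IsLocalHom (tr p z) := by
  have h : Spec.map (CommRingCat.ofHom (tr p z)) (closedPoint (P.presheaf.stalk z)) = closedPoint R := by
    rw [spec_map_tr, Scheme.Hom.comp_apply, Scheme.fromSpecStalk_closedPoint, hz]
  exact ((local_hom_TFAE (tr p z)).out 0 4).2 (congrArg PrimeSpectrum.asIdeal h)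

/-- A section killed at every point of the closed fibre of a closed map to a local scheme is zero. -/
theorem eq_zero_of_closed_fibre {R : Type u} [CommRing R] [IsLocalRing R] {P : Scheme.{u}}
    (p : P ⟶ Spec (CommRingCat.of R)) (hp : IsClosedMap p) (s : Γ(P, ⊤))
    (h : ∀ w : P, p w = closedPoint R → P.presheaf.germ ⊤ w trivial s = 0) : s = 0 := by
  refine TopCat.Presheaf.section_ext P.sheaf ⊤ s 0 fun z _ => ?_
  obtain ⟨w, hw1, hw2⟩ : closedPoint R ∈ p '' closure {z} :=
    (specializes_closedPoint (p z)).mem_closed (hp _ isClosed_closure)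
      ⟨z, subset_closure rfl, rfl⟩
  obtain ⟨W, hwW, i₁, i₂, e⟩ := P.presheaf.germ_eq (U := ⊤) (V := ⊤) w trivial trivial s 0
    ((h w hw2).trans (map_zero _).symm)
  have hzW : z ∈ W := (specializes_iff_mem_closure.mpr hw1).mem_open W.2 hwW
  exact TopCat.Presheaf.germ_ext P.presheaf W hzW i₁ i₂ e

variable {O : Type u} [CommRing O] {P : Scheme.{u}} (p : P ⟶ Spec (CommRingCat.of O))

/-- Injectivity on global sections is preserved by flat base change. -/
theorem injective_appTop_flat [QuasiCompact p] {S : Type u} [CommRing S] [Algebra O S] [Module.Flat O S]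
    (hinj : Function.Injective p.appTop) {P' : Scheme.{u}} {r : P' ⟶ P} {p' : P' ⟶ Spec (CommRingCat.of S)}
    (H : IsPullback r p' p (Spec.map (CommRingCat.ofHom (algebraMap O S)))) :
    Function.Injective p'.appTop := by
  classical
  let b := Spec.map (CommRingCat.ofHom (algebraMap O S))
  refine (injective_iff_map_eq_zero _).2 fun a ha => ?_
  haveI : CompactSpace P := QuasiCompact.compactSpace_of_compactSpace p
  choose U hU hxU _ using fun z : P => exists_isAffineOpen_mem_and_subset (X := P) (x := z) (U := ⊤) trivial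
  obtain ⟨t, ht⟩ := isCompact_univ.elim_finite_subcover (fun z => (U z : Set P)) (fun z => (U z).2)
    (fun z _ => Set.mem_iUnion.mpr ⟨z, hxU z⟩)
  let e₀ := (Scheme.ΓSpecIso (CommRingCat.of O)).symm.commRingCatIsoToRingEquiv
  let B : t → Type u := fun z => Γ(P, U z.1)
  letI : ∀ z : t, CommRing (B z) := fun z => inferInstanceAs (CommRing Γ(P, U z.1))
  letI : ∀ z : t, Algebra O (B z) := fun z => ((p.appLE ⊤ (U z.1) le_top).hom.comp e₀.toRingHom).toAlgebra
  have hf : Function.Injective (Algebra.linearMap O (∀ z, B z)) := fun a c hac => e₀.injective (hinj (by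
    refine TopCat.Presheaf.section_ext P.sheaf ⊤ _ _ fun z _ => ?_
    obtain ⟨w, hw, hzw⟩ := Set.mem_iUnion₂.mp (ht (Set.mem_univ z))
    have := congrFun hac ⟨w, hw⟩
    change p.appLE ⊤ (U w) le_top (e₀ a) = p.appLE ⊤ (U w) le_top (e₀ c) at this
    have h2 := congrArg (P.presheaf.germ (U w) z hzw) this
    rw [Scheme.Hom.appLE, CommRingCat.comp_apply, CommRingCat.comp_apply] at h2
    exact ((TopCat.Presheaf.germ_res_apply P.presheaf _ _ _ _).symm.trans h2).trans
      (TopCat.Presheaf.germ_res_apply P.presheaf _ _ _ _)))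
  have key := Module.Flat.lTensor_preserves_injective_linearMap (M := S) _ hf
  have hz : ∀ z : t, (Scheme.ΓSpecIso (CommRingCat.of S)).hom a ⊗ₜ[O] (1 : B z) = 0 := fun z => by
    have h := Stage62.isPushout_sections H (isAffineOpen_top _) (hU z.1) le_top le_top
    let i₁ : CommRingCat.of S ⟶ CommRingCat.of (S ⊗[O] B z) :=
      CommRingCat.ofHom (Algebra.TensorProduct.includeLeftRingHom (R := O) (A := S) (B := B z))
    let i₂ : Γ(P, U z.1) ⟶ CommRingCat.of (S ⊗[O] B z) :=
      CommRingCat.ofHom (Algebra.TensorProduct.includeRight (R := O) (A := S) (B := B z)).toRingHom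
    have w : b.app ⊤ ≫ (Scheme.ΓSpecIso (CommRingCat.of S)).hom ≫ i₁ = p.appLE ⊤ (U z.1) le_top ≫ i₂ := by
      ext x
      obtain ⟨x, rfl⟩ := e₀.surjective x
      have h1 := congr($(Scheme.ΓSpecIso_naturality (CommRingCat.ofHom (algebraMap O S))) (e₀ x))
      simp only [CommRingCat.comp_apply] at h1 ⊢
      refine (congrArg i₁ h1).trans ?_
      show (algebraMap O S ((Scheme.ΓSpecIso (CommRingCat.of O)).hom (e₀ x))) ⊗ₜ[O] (1 : B z) =
        (1 : S) ⊗ₜ[O] algebraMap O (B z) x
      rw [show (Scheme.ΓSpecIso (CommRingCat.of O)).hom (e₀ x) = x from e₀.symm_apply_apply x,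
        Algebra.algebraMap_eq_smul_one, Algebra.algebraMap_eq_smul_one, smul_tmul]
    have h2 := congr($(h.inl_desc _ _ w) a)
    simp only [CommRingCat.comp_apply] at h2
    refine h2.symm.trans ((congrArg (h.desc _ _ w) ?_).trans (map_zero _))
    show (P'.presheaf.map (homOfLE _).op) (p'.app ⊤ a) = 0
    rw [show p'.app ⊤ a = 0 from ha]
    exact map_zero _
  have h0 : (Scheme.ΓSpecIso (CommRingCat.of S)).hom a ⊗ₜ[O] (1 : ∀ z, B z) = 0 := by
    refine (TensorProduct.piRight O O S B).injective ?_
    rw [map_zero]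
    funext z
    exact hz z
  have h3 : (Scheme.ΓSpecIso (CommRingCat.of S)).hom a ⊗ₜ[O] (1 : O) = 0 := key (by
    rw [LinearMap.lTensor_tmul, Algebra.linearMap_apply, map_one, map_zero]
    exact h0)
  have h4 := congrArg (TensorProduct.rid O S) h3
  rw [rid_tmul, one_smul, map_zero] at h4
  exact (Scheme.ΓSpecIso (CommRingCat.of S)).commRingCatIsoToRingEquiv.injective (h4.trans (map_zero _).symm)

variable [IsNoetherianRing O] [IsLocalRing O] [IsProper p]

/-- The filtration cut out by the closed fibre is finer than the adic one. -/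
theorem exists_bound (hinj : Function.Injective p.appTop) (N : ℕ) :
    ∃ n : ℕ, ∀ a : O, (∀ z : P, p z = closedPoint O → tr p z a ∈ maximalIdeal (P.presheaf.stalk z) ^ n) →
      a ∈ maximalIdeal O ^ N := by
  let S := AdicCompletion (maximalIdeal O) O
  haveI : IsNoetherianRing S := CAlg1.isNoetherianRing_adicCompletion _ (IsNoetherian.noetherian _)
  let b := Spec.map (CommRingCat.ofHom (algebraMap O S))
  let p' := pullback.snd p b
  let r := pullback.fst p b
  haveI : IsLocallyNoetherian (pullback p b) := LocallyOfFiniteType.isLocallyNoetherian p'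
  have hinj' := injective_appTop_flat p hinj (IsPullback.of_hasPullback p b)
  let K : ℕ → Ideal S := fun n =>
    ⨅ w : {w : ↥(pullback p b) // p' w = closedPoint S}, (maximalIdeal _ ^ n).comap (tr p' w.1)
  have hK : Antitone K := fun a c hac => iInf_mono fun w => Ideal.comap_mono (Ideal.pow_le_pow_right hac)
  have hbot : ⨅ n, K n = ⊥ := by
    refine eq_bot_iff.2 fun a ha => ?_
    have hz : p'.appTop ((Scheme.ΓSpecIso (CommRingCat.of S)).inv a) = 0 := by
      refine eq_zero_of_closed_fibre p' p'.isClosedMap _ fun w hw => ?_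
      rw [← tr_apply]
      have : tr p' w a ∈ ⨅ n, maximalIdeal ((pullback p b).presheaf.stalk w) ^ n :=
        (Submodule.mem_iInf _).2 fun n => (Submodule.mem_iInf _).1 ((Submodule.mem_iInf _).1 ha n) ⟨w, hw⟩
      rwa [Ideal.iInf_pow_eq_bot_of_isLocalRing _ (maximalIdeal.isMaximal _).ne_top] at this
    have := hinj' (hz.trans (map_zero _).symm)
    exact (Submodule.mem_bot _).2 ((Scheme.ΓSpecIso (CommRingCat.of S)).symm.commRingCatIsoToRingEquiv.injective
      (this.trans (map_zero _).symm))
  obtain ⟨n, hn⟩ := CAlg7.exists_le_pow K hK hbot N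
  refine ⟨n, fun a ha => ?_⟩
  have hmem : algebraMap O S a ∈ K n := by
    refine (Submodule.mem_iInf _).2 fun w => Ideal.mem_comap.2 ?_
    have hz : p (r w.1) = closedPoint O := by
      rw [← Scheme.Hom.comp_apply, pullback.condition, Scheme.Hom.comp_apply, w.2]
      haveI : IsLocalHom (CommRingCat.ofHom (algebraMap O S)).hom := inferInstanceAs (IsLocalHom (algebraMap O S))
      exact Spec_closedPoint
    have e : tr p' w.1 (algebraMap O S a) = r.stalkMap w.1 (tr p (r w.1) a) := by
      rw [tr_apply, tr_apply, Scheme.Hom.germ_stalkMap_apply]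
      have h1 := congr($(Scheme.ΓSpecIso_inv_naturality (CommRingCat.ofHom (algebraMap O S))) a)
      simp only [CommRingCat.hom_comp, RingHom.coe_comp, Function.comp_apply, CommRingCat.hom_ofHom] at h1
      rw [h1]
      have h2 := congr($(congrArg Scheme.Hom.appTop (pullback.condition (f := p) (g := b)))
        ((Scheme.ΓSpecIso (CommRingCat.of O)).inv a))
      simp only [Scheme.Hom.comp_appTop, CommRingCat.hom_comp, RingHom.coe_comp, Function.comp_apply] at h2
      exact congrArg _ h2.symm
    rw [e]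
    exact Ideal.pow_right_mono ((((local_hom_TFAE (r.stalkMap w.1).hom).out 0 2).1 (inferInstance : IsLocalHom (r.stalkMap w.1).hom))) n
      ((Ideal.map_pow _ _ n).le (Ideal.mem_map_of_mem _ (ha _ hz)))
  have h3 : algebraMap O S a ∈ (maximalIdeal O ^ N).map (algebraMap O S) := by
    rw [Ideal.map_pow, ← AdicCompletion.maximalIdeal_eq_map]
    exact hn hmem
  haveI : IsLocalHom (algebraMap O S) := inferInstance
  haveI : Module.FaithfullyFlat O S := Module.FaithfullyFlat.of_flat_of_isLocalHom
  rwa [← Ideal.mem_comap, Ideal.comap_map_eq_self_of_faithfullyFlat] at h3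

/-- Finitely many points of the closed fibre already define the adic topology. -/
theorem exists_finset_bound (hinj : Function.Injective p.appTop) (N : ℕ) :
    ∃ s : Finset ({z : P // p z = closedPoint O} × ℕ),
      ⨅ q ∈ s, (maximalIdeal (P.presheaf.stalk q.1.1) ^ q.2).comap (tr p q.1.1) ≤ maximalIdeal O ^ N := by
  classical
  obtain ⟨n, hn⟩ := exists_bound p hinj N
  let m := maximalIdeal O
  let J : Finset {z : P // p z = closedPoint O} → Ideal O := fun t =>
    ⨅ z ∈ t, (maximalIdeal (P.presheaf.stalk z.1) ^ n).comap (tr p z.1)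
  have hm : ∀ t, m ^ n ≤ J t := fun t => le_iInf₂ fun z _ => by
    haveI := isLocalHom_tr p z.1 z.2
    exact (Ideal.pow_right_mono (((local_hom_TFAE (tr p z.1)).out 0 3).1 (inferInstance : IsLocalHom (tr p z.1))) n).trans
      (Ideal.le_comap_pow _ n)
  haveI : IsArtinianRing (O ⧸ m ^ n) := CAlg7.isArtinian_quot_pow n
  obtain ⟨I, ⟨t, rfl⟩, hI⟩ := IsArtinian.set_has_minimal (R := O ⧸ m ^ n) (M := O ⧸ m ^ n)
    (Set.range fun t => (J t).map (Ideal.Quotient.mk (m ^ n))) (Set.range_nonempty _)
  have hmin : ∀ z : {z : P // p z = closedPoint O}, J t ≤ (maximalIdeal (P.presheaf.stalk z.1) ^ n).comap (tr p z.1) := fun z => by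
    have hle : J (insert z t) ≤ J t := biInf_mono fun _ h => Finset.mem_insert_of_mem h
    have he : (J (insert z t)).map (Ideal.Quotient.mk (m ^ n)) = (J t).map (Ideal.Quotient.mk (m ^ n)) :=
      eq_of_le_of_not_lt (Ideal.map_mono hle) (hI _ ⟨_, rfl⟩)
    have := congrArg (Ideal.comap (Ideal.Quotient.mk (m ^ n))) he
    rw [Ideal.comap_map_of_surjective _ Ideal.Quotient.mk_surjective,
      Ideal.comap_map_of_surjective _ Ideal.Quotient.mk_surjective, ← RingHom.ker_eq_comap_bot,
      Ideal.mk_ker, sup_eq_left.2 (hm _), sup_eq_left.2 (hm _)] at this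
    rw [← this]
    exact iInf₂_le z (Finset.mem_insert_self z t)
  refine ⟨t.image fun z : {z : P // p z = closedPoint O} => (z, n), fun a ha => hn a fun z hz => hmin ⟨z, hz⟩ ?_⟩
  refine (Submodule.mem_iInf _).2 fun z' => (Submodule.mem_iInf _).2 fun hz' => ?_
  exact (Submodule.mem_iInf _).1 ((Submodule.mem_iInf _).1 ha (z', n)) (Finset.mem_image_of_mem _ hz')

end Groth.Agent.Desc62
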