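import Groth.Agent.FlatMor68.PullbackStalk
import Groth.Agent.LimTop61.AmpleStage
import Groth.Agent.QC70.UnitSub

/-! Flatness of the structure module over a base is flatness of the morphism. -/

set_option autoImplicit false
set_option backward.isDefEq.respectTransparency.types false
set_option linter.style.haveILetI false
universe u

open CategoryTheory AlgebraicGeometry TensorProduct

namespace Groth.Agent.Desc62

variable {X Y S : Scheme.{u}}

theorem isFlatOverAt_iff_of_stalkEquiv (f : X ⟶ S) (M : X.Modules) (x : X)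
    (E : X.presheaf.stalk x ≃ₗ[X.presheaf.stalk x] M.presheaf.stalk x) :
    FlatMod.IsFlatOverAt f M x ↔ (f.stalkMap x).hom.Flat := by
  letI : Algebra (S.presheaf.stalk (f x)) (X.presheaf.stalk x) := (f.stalkMap x).hom.toAlgebra
  letI : Module (S.presheaf.stalk (f x)) (M.presheaf.stalk x) := FlatMod.moduleStalkOver f M x
  haveI : IsScalarTower (S.presheaf.stalk (f x)) (X.presheaf.stalk x) (M.presheaf.stalk x) :=
    IsScalarTower.of_algebraMap_smul fun _ _ => rfl
  exact ⟨fun h => haveI : Module.Flat _ (M.presheaf.stalk x) := h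
      Module.Flat.of_linearEquiv (E.restrictScalars (S.presheaf.stalk (f x))),
    fun h => haveI : Module.Flat (S.presheaf.stalk (f x)) (X.presheaf.stalk x) := h
      Module.Flat.of_linearEquiv (E.restrictScalars (S.presheaf.stalk (f x))).symm⟩

theorem isFlatOverAt_structureModule_iff (f : X ⟶ S) (x : X) :
    FlatMod.IsFlatOverAt f (Coh.structureModule X) x ↔ (f.stalkMap x).hom.Flat :=
  isFlatOverAt_iff_of_stalkEquiv f _ x (QC70.unitStalkEquiv x)

theorem isFlatOverAt_pullback_structureModule_iff (h : X ⟶ Y) (f : X ⟶ S) (x : X) :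
    FlatMod.IsFlatOverAt f ((Scheme.Modules.pullback h).obj (Coh.structureModule Y)) x ↔
      (f.stalkMap x).hom.Flat := by
  obtain ⟨σ, -⟩ := (LimTop61.isFP_structureModule' Y).exists_quasicoherentData
  haveI : (Coh.structureModule Y).IsQuasicoherent := σ.isQuasicoherent
  letI := (h.stalkMap x).hom.toAlgebra
  obtain ⟨E⟩ := FlatMor68.PullbackStalk.nonempty_stalkPullbackEquiv h (Coh.structureModule Y) x
  exact isFlatOverAt_iff_of_stalkEquiv f _ x ((AlgebraTensorModule.rid (Y.presheaf.stalk (h x)) (X.presheaf.stalk x) (X.presheaf.stalk x)).symm ≪≫ₗ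
    AlgebraTensorModule.congr (LinearEquiv.refl _ _) (QC70.unitStalkEquiv (h x)) ≪≫ₗ E.symm)

end Groth.Agent.Desc62
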